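import Cfsg.Agent.Lib.StemMetacyclic.Upper

/-!
A covering group for a metacyclic group.

* `Params` : the arithmetic data `m = d m'`, `r = d r' + 1`, `u r' + z m' = 1`, `d = N q`,
  `∑ r ^ i = m' N q₂`, `l = N q₃`
* `exists_stem` : the presented metacyclic group has `orderOf a = m` and a finite stem extension with
  cyclic kernel of order `N`
-/

set_option autoImplicit false

open scoped commutatorElement

namespace Cfsg.Agent.StemMetacyclic

/-- The arithmetic data of a metacyclic cover. -/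
structure Params where
  m : ℕ
  n : ℕ
  r : ℕ
  l : ℕ
  d : ℕ
  m' : ℕ
  r' : ℕ
  N : ℕ
  u : ℤ
  z : ℤ
  q : ℕ
  q₂ : ℕ
  q₃ : ℕ
  hm : m = d * m'
  hr : r = d * r' + 1
  hbez : u * r' + z * m' = 1
  hq : d = N * q
  hS : ∑ i ∈ Finset.range n, r ^ i = m' * N * q₂
  hl : l = N * q₃
  hn : 0 < n
  hmpos : 0 < m
  hN : 0 < N

variable (P : Params)

/-- The relation lattice. -/
def lattice : AddSubgroup (ℤ × ℤ) where
  carrier := {p | ∃ α β : ℤ, p.1 = α * P.m ∧ p.2 = β * P.N - α * P.u}
  zero_mem' := ⟨0, 0, by simp, by simp⟩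
  add_mem' := by
    rintro x y ⟨a, b, h1, h2⟩ ⟨a', b', h1', h2'⟩
    exact ⟨a + a', b + b', by rw [Prod.fst_add, h1, h1']; ring, by rw [Prod.snd_add, h2, h2']; ring⟩
  neg_mem' := by
    rintro x ⟨a, b, h1, h2⟩
    exact ⟨-a, -b, by rw [Prod.fst_neg, h1]; ring, by rw [Prod.snd_neg, h2]; ring⟩

/-- The abelian normal part of the cover. -/
abbrev Ab : Type := Multiplicative ((ℤ × ℤ) ⧸ lattice P)

/-- The class of a pair. -/
def vec (x y : ℤ) : Ab P := Multiplicative.ofAdd (((x, y) : ℤ × ℤ) : (ℤ × ℤ) ⧸ lattice P)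

theorem vec_surj (v : Ab P) : ∃ x y : ℤ, v = vec P x y := by
  obtain ⟨p, hp⟩ := QuotientAddGroup.mk_surjective (Multiplicative.toAdd v)
  exact ⟨p.1, p.2, by rw [vec, Prod.mk.eta, hp, ofAdd_toAdd]⟩

theorem vec_eq_iff {x y x' y' : ℤ} : vec P x y = vec P x' y' ↔
    ∃ α β : ℤ, x - x' = α * P.m ∧ y - y' = β * P.N - α * P.u := by
  rw [vec, vec, Multiplicative.ofAdd.injective.eq_iff, QuotientAddGroup.eq_iff_sub_mem]
  rfl

theorem vec_mul (x y x' y' : ℤ) : vec P x y * vec P x' y' = vec P (x + x') (y + y') := rfl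

theorem vec_zero : vec P 0 0 = 1 := rfl

theorem vec_zpow (x y k : ℤ) : vec P x y ^ k = vec P (k * x) (k * y) := rfl

theorem vec_pow (x y : ℤ) (k : ℕ) : vec P x y ^ k = vec P (k * x) (k * y) := by
  rw [← zpow_natCast]; exact vec_zpow P x y k

/-- The endomorphism induced by `b`. -/
def shear : ℤ × ℤ →+ ℤ × ℤ where
  toFun p := ((P.r : ℤ) * p.1, P.z * p.1 + p.2)
  map_zero' := by simp
  map_add' x y := by ext <;> simp <;> ring

theorem shear_lattice : lattice P ≤ (lattice P).comap (shear P) := by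
  rintro ⟨x, y⟩ ⟨a, b, h1, h2⟩
  simp only at h1 h2
  refine ⟨P.r * a, b + a * P.q, by simp [shear, h1]; ring, ?_⟩
  show P.z * x + y = _
  have hm := congrArg (Nat.cast : ℕ → ℤ) P.hm
  have hr := congrArg (Nat.cast : ℕ → ℤ) P.hr
  have hq := congrArg (Nat.cast : ℕ → ℤ) P.hq
  push_cast at hm hr hq
  rw [h1, h2, hm, hr, hq]
  linear_combination (a * P.N * P.q) * P.hbez

/-- The action of `b` on the normal part, as an endomorphism. -/
def shearHom : Ab P →* Ab P :=
  AddMonoidHom.toMultiplicative (QuotientAddGroup.map _ _ (shear P) (shear_lattice P))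

theorem shearHom_vec (x y : ℤ) : shearHom P (vec P x y) = vec P (P.r * x) (P.z * x + y) := rfl

theorem shear_iterate (i : ℕ) (x y : ℤ) :
    (shearHom P)^[i] (vec P x y) = vec P ((P.r : ℤ) ^ i * x) (P.z * (∑ j ∈ Finset.range i, (P.r : ℤ) ^ j) * x + y) := by
  induction i with
  | zero => simp
  | succ i ih =>
    rw [Function.iterate_succ_apply', ih, shearHom_vec, Finset.sum_range_succ]
    congr 1 <;> ring

theorem shear_order (v : Ab P) : (shearHom P)^[P.n] v = v := by
  obtain ⟨x, y, rfl⟩ := vec_surj P v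
  rw [shear_iterate, vec_eq_iff]
  have hm := congrArg (Nat.cast : ℕ → ℤ) P.hm
  have hr := congrArg (Nat.cast : ℕ → ℤ) P.hr
  have hS := congrArg (Nat.cast : ℕ → ℤ) P.hS
  push_cast at hm hr hS
  have hg := geom_sum_mul ((P.r : ℤ)) P.n
  rw [hS] at hg ⊢
  refine ⟨P.r' * P.N * P.q₂ * x, P.q₂ * x, ?_, ?_⟩
  · rw [hm]
    rw [hr] at hg ⊢
    linear_combination (-x) * hg
  · linear_combination (P.N * P.q₂ * x) * P.hbez

/-- The action of `b` on the normal part. -/
def shearEquiv : MulAut (Ab P) where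
  toFun := shearHom P
  invFun := (shearHom P)^[P.n - 1]
  left_inv v := by
    rw [← Function.iterate_succ_apply, Nat.sub_one, Nat.succ_pred_eq_of_pos P.hn]
    exact shear_order P v
  right_inv v := by
    rw [← Function.iterate_succ_apply' (shearHom P), Nat.sub_one, Nat.succ_pred_eq_of_pos P.hn]
    exact shear_order P v
  map_mul' := map_mul _

theorem shearEquiv_apply (v : Ab P) : shearEquiv P v = shearHom P v := rfl

theorem shearEquiv_pow : shearEquiv P ^ P.n = 1 := by
  ext v
  have : ∀ i : ℕ, (shearEquiv P ^ i) v = (shearHom P)^[i] v := by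
    intro i
    induction i with
    | zero => rfl
    | succ i ih => rw [pow_succ', MulAut.mul_apply, ih, Function.iterate_succ_apply', shearEquiv_apply]
  rw [this, shear_order]; rfl

/-- The split extension. -/
abbrev Ext : Type := SemidirectProduct (Ab P) (Multiplicative ℤ) (zpowersHom (MulAut (Ab P)) (shearEquiv P))

/-- The element to be killed. -/
def killed : Ext P :=
  SemidirectProduct.inl (vec P (-((P.m' * P.l : ℕ) : ℤ)) 0) * SemidirectProduct.inr (Multiplicative.ofAdd (P.n : ℤ))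

theorem shear_fixed (k : ℤ) : shearHom P (vec P (k * (P.m' * P.l : ℕ)) 0) = vec P (k * (P.m' * P.l : ℕ)) 0 := by
  rw [shearHom_vec, vec_eq_iff]
  have hm := congrArg (Nat.cast : ℕ → ℤ) P.hm
  have hr := congrArg (Nat.cast : ℕ → ℤ) P.hr
  have hl := congrArg (Nat.cast : ℕ → ℤ) P.hl
  push_cast at hm hr hl ⊢
  refine ⟨k * P.r' * P.l, k * P.q₃, ?_, ?_⟩
  · rw [hm, hr]; ring
  · rw [hl]; linear_combination (k * P.N * P.q₃) * P.hbez

theorem killed_mem_center : killed P ∈ Subgroup.center (Ext P) := by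
  rw [Subgroup.mem_center_iff]
  intro g
  obtain ⟨v, i⟩ := g
  have hfix : ∀ i : ℤ, (shearEquiv P ^ i) (vec P (-((P.m' * P.l : ℕ) : ℤ)) 0) = vec P (-((P.m' * P.l : ℕ) : ℤ)) 0 := by
    have h1 : shearEquiv P (vec P (-((P.m' * P.l : ℕ) : ℤ)) 0) = vec P (-((P.m' * P.l : ℕ) : ℤ)) 0 := by
      rw [shearEquiv_apply]; simpa using shear_fixed P (-1)
    intro i
    induction i using Int.induction_on with
    | zero => rfl
    | succ i ih => rw [zpow_add_one, MulAut.mul_apply, h1, ih]
    | pred i ih =>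
      rw [zpow_sub_one, MulAut.mul_apply]
      conv_lhs => rw [← h1, MulAut.inv_apply_self]
      exact ih
  apply SemidirectProduct.ext
  · simp only [killed, SemidirectProduct.mul_left, SemidirectProduct.mul_right, SemidirectProduct.left_inl,
      SemidirectProduct.right_inl, SemidirectProduct.left_inr, SemidirectProduct.right_inr, map_one, mul_one, one_mul]
    rw [zpowersHom_apply, zpowersHom_apply, hfix, toAdd_ofAdd, zpow_natCast, shearEquiv_pow, MulAut.one_apply,
      mul_comm]
  · simp [killed, mul_comm]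

instance : (Subgroup.zpowers (killed P)).Normal :=
  ⟨fun x hx g => by
    have hc : x ∈ Subgroup.center (Ext P) :=
      Subgroup.zpowers_le.mpr (killed_mem_center P) hx
    rwa [Subgroup.mem_center_iff.mp hc g, mul_inv_cancel_right]⟩

/-- The cover. -/
abbrev Cover : Type := Ext P ⧸ Subgroup.zpowers (killed P)

/-- Elements of the normal part in the cover. -/
def inj : Ab P →* Cover P := (QuotientGroup.mk' _).comp SemidirectProduct.inl

/-- The lift of `b`. -/
def genB : Cover P := QuotientGroup.mk' _ (SemidirectProduct.inr (Multiplicative.ofAdd (1 : ℤ)))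

theorem genB_zpow (i : ℤ) :
    genB P ^ i = QuotientGroup.mk' _ (SemidirectProduct.inr (Multiplicative.ofAdd i)) := by
  rw [genB, ← map_zpow, ← map_zpow, ← ofAdd_zsmul, smul_eq_mul, mul_one]

theorem cover_surj (g : Cover P) : ∃ v : Ab P, ∃ i : ℤ, g = inj P v * genB P ^ i := by
  obtain ⟨e, rfl⟩ := QuotientGroup.mk'_surjective _ g
  refine ⟨e.left, Multiplicative.toAdd e.right, ?_⟩
  rw [genB_zpow, ofAdd_toAdd, inj, MonoidHom.comp_apply, ← map_mul, SemidirectProduct.inl_left_mul_inr_right]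

theorem genB_conj (v : Ab P) : genB P * inj P v * (genB P)⁻¹ = inj P (shearHom P v) := by
  rw [genB, inj, MonoidHom.comp_apply, ← map_mul, ← map_inv, ← map_mul, ← map_inv,
    ← SemidirectProduct.inl_aut, zpowersHom_apply, toAdd_ofAdd, zpow_one, shearEquiv_apply]
  rfl

theorem genB_pow : genB P ^ P.n = inj P (vec P (P.m' * P.l : ℕ) 0) := by
  rw [← zpow_natCast, genB_zpow, inj, MonoidHom.comp_apply]
  rw [QuotientGroup.mk'_eq_mk']
  refine ⟨(killed P)⁻¹ , Subgroup.inv_mem _ (Subgroup.mem_zpowers _), ?_⟩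
  rw [killed, mul_inv_rev, mul_inv_cancel_left, ← map_inv]
  congr 1
  show vec P (- -_) (-0) = _
  simp

theorem inj_eq_one_iff (v : Ab P) : inj P v = 1 ↔ v = 1 := by
  refine ⟨fun h => ?_, fun h => by rw [h, map_one]⟩
  obtain ⟨i, hi⟩ := Subgroup.mem_zpowers_iff.mp ((QuotientGroup.eq_one_iff _).mp h)
  have h2 := congrArg SemidirectProduct.rightHom hi
  rw [map_zpow, killed, map_mul, SemidirectProduct.rightHom_inl, SemidirectProduct.rightHom_inr, one_mul,
    SemidirectProduct.rightHom_inl] at h2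
  have hi0 : i * (P.n : ℤ) = 0 := by
    have := congrArg Multiplicative.toAdd h2
    simpa using this
  rcases mul_eq_zero.mp hi0 with h0 | h0
  · rw [h0, zpow_zero] at hi
    exact SemidirectProduct.inl_injective (hi.symm.trans (map_one _).symm)
  · exact absurd (by exact_mod_cast h0) P.hn.ne'

instance : Finite (Cover P) := by
  classical
  have hf : Finite (Ab P) := by
    refine Finite.of_surjective (fun p : Fin P.m × Fin P.N => vec P (p.1 : ℕ) (p.2 : ℕ)) fun v => ?_
    obtain ⟨x, y, rfl⟩ := vec_surj P v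
    have hm : (P.m : ℤ) ≠ 0 := by exact_mod_cast P.hmpos.ne'
    have hN : (P.N : ℤ) ≠ 0 := by exact_mod_cast P.hN.ne'
    set x0 := x % P.m
    set y1 := y + x / P.m * P.u
    refine ⟨(⟨(x0).toNat, ?_⟩, ⟨(y1 % P.N).toNat, ?_⟩), ?_⟩
    · have := Int.emod_lt_of_pos x (by exact_mod_cast P.hmpos : (0 : ℤ) < P.m)
      have := Int.emod_nonneg x hm
      omega
    · have := Int.emod_lt_of_pos y1 (by exact_mod_cast P.hN : (0 : ℤ) < P.N)
      have := Int.emod_nonneg y1 hN
      omega
    · simp only [Int.toNat_of_nonneg (Int.emod_nonneg _ hm), Int.toNat_of_nonneg (Int.emod_nonneg _ hN), x0]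
      rw [vec_eq_iff]
      refine ⟨-(x / P.m), -(y1 / P.N), ?_, ?_⟩
      · linear_combination Int.emod_add_ediv_mul x P.m
      · linear_combination (Int.emod_add_ediv_mul y1 P.N : y1 % P.N + y1 / P.N * P.N = y1) + (rfl : y1 = y + x / P.m * P.u)
  refine Finite.of_surjective (fun p : Ab P × Fin P.n => inj P p.1 * genB P ^ (p.2 : ℕ)) fun g => ?_
  obtain ⟨v, i, rfl⟩ := cover_surj P g
  have hn : (P.n : ℤ) ≠ 0 := by exact_mod_cast P.hn.ne'
  refine ⟨(v * vec P (P.m' * P.l : ℕ) 0 ^ (i / P.n), ⟨(i % P.n).toNat, ?_⟩), ?_⟩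
  · have := Int.emod_lt_of_pos i (by exact_mod_cast P.hn : (0 : ℤ) < P.n)
    have := Int.emod_nonneg i hn
    omega
  · simp only
    rw [map_mul, map_zpow, ← genB_pow, mul_assoc, ← zpow_natCast, ← zpow_mul, ← zpow_natCast, ← zpow_add,
      Int.toNat_of_nonneg (Int.emod_nonneg _ hn), Int.mul_ediv_add_emod]

/-- The presented metacyclic group. -/
abbrev Meta : Type :=
  PresentedGroup ({FreeGroup.of true ^ P.m,
    (FreeGroup.of false) ^ P.n * (FreeGroup.of true ^ (P.m' * P.l))⁻¹,
    FreeGroup.of false * FreeGroup.of true * (FreeGroup.of false)⁻¹ * (FreeGroup.of true ^ P.r)⁻¹} :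
      Set (FreeGroup Bool))

/-- The generator `a`. -/
def ga : Meta P := PresentedGroup.of true

/-- The generator `b`. -/
def gb : Meta P := PresentedGroup.of false

theorem ga_pow : ga P ^ P.m = 1 := by
  exact PresentedGroup.one_of_mem (x := FreeGroup.of true ^ P.m)
    (rels := ({FreeGroup.of true ^ P.m, (FreeGroup.of false) ^ P.n * (FreeGroup.of true ^ (P.m' * P.l))⁻¹,
      FreeGroup.of false * FreeGroup.of true * (FreeGroup.of false)⁻¹ * (FreeGroup.of true ^ P.r)⁻¹} :
      Set (FreeGroup Bool))) (Or.inl rfl)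

theorem gb_pow : gb P ^ P.n = ga P ^ (P.m' * P.l) := by
  have h := PresentedGroup.one_of_mem (x := (FreeGroup.of false) ^ P.n * (FreeGroup.of true ^ (P.m' * P.l))⁻¹)
    (rels := ({FreeGroup.of true ^ P.m, (FreeGroup.of false) ^ P.n * (FreeGroup.of true ^ (P.m' * P.l))⁻¹,
      FreeGroup.of false * FreeGroup.of true * (FreeGroup.of false)⁻¹ * (FreeGroup.of true ^ P.r)⁻¹} :
      Set (FreeGroup Bool))) (Or.inr (Or.inl rfl))
  exact mul_inv_eq_one.mp h

theorem gb_conj : gb P * ga P * (gb P)⁻¹ = ga P ^ P.r := by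
  have h := PresentedGroup.one_of_mem
    (x := FreeGroup.of false * FreeGroup.of true * (FreeGroup.of false)⁻¹ * (FreeGroup.of true ^ P.r)⁻¹)
    (rels := ({FreeGroup.of true ^ P.m, (FreeGroup.of false) ^ P.n * (FreeGroup.of true ^ (P.m' * P.l))⁻¹,
      FreeGroup.of false * FreeGroup.of true * (FreeGroup.of false)⁻¹ * (FreeGroup.of true ^ P.r)⁻¹} :
      Set (FreeGroup Bool))) (Or.inr (Or.inr rfl))
  exact mul_inv_eq_one.mp h

theorem closure_gens : Subgroup.closure {ga P, gb P} = ⊤ := by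
  rw [eq_top_iff, ← PresentedGroup.closure_range_of, Subgroup.closure_le]
  rintro _ ⟨b, rfl⟩
  cases b
  · exact Subgroup.subset_closure (Or.inr rfl)
  · exact Subgroup.subset_closure (Or.inl rfl)

/-- The first coordinate, into the presented group. -/
def toMeta : Ab P →* Meta P :=
  AddMonoidHom.toMultiplicativeLeft
    (QuotientAddGroup.lift (lattice P)
      ((zmultiplesHom _ (Additive.ofMul (ga P))).comp (AddMonoidHom.fst ℤ ℤ))
      (by
        rintro ⟨x, y⟩ ⟨α, β, h1, -⟩
        simp only at h1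
        rw [AddMonoidHom.mem_ker, AddMonoidHom.comp_apply, AddMonoidHom.coe_fst, zmultiplesHom_apply, h1,
          mul_zsmul, natCast_zsmul, ← ofMul_pow, ga_pow, ofMul_one, smul_zero]))

theorem toMeta_vec (x y : ℤ) : toMeta P (vec P x y) = ga P ^ x := rfl

theorem toMeta_compat (g : Multiplicative ℤ) :
    (toMeta P).comp ((zpowersHom (MulAut (Ab P)) (shearEquiv P)) g).toMonoidHom =
      (MulAut.conj (zpowersHom (Meta P) (gb P) g)).toMonoidHom.comp (toMeta P) := by
  have h1 : ∀ v, toMeta P (shearEquiv P v) = gb P * toMeta P v * (gb P)⁻¹ := by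
    intro v
    obtain ⟨x, y, rfl⟩ := vec_surj P v
    rw [shearEquiv_apply, shearHom_vec, toMeta_vec, toMeta_vec, zpow_mul, zpow_natCast, ← gb_conj, ← conj_zpow]
  have key : ∀ i : ℤ, ∀ v, toMeta P ((shearEquiv P ^ i) v) = gb P ^ i * toMeta P v * (gb P ^ i)⁻¹ := by
    intro i
    induction i using Int.induction_on with
    | zero => intro v; simp
    | succ i ih => intro v; rw [zpow_add_one, MulAut.mul_apply, ih, h1, zpow_add_one]; group
    | pred i ih =>
      intro v
      have h2 : toMeta P ((shearEquiv P)⁻¹ v) = (gb P)⁻¹ * toMeta P v * gb P := by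
        have := h1 ((shearEquiv P)⁻¹ v)
        rw [MulAut.apply_inv_self] at this
        rw [this]; group
      rw [zpow_sub_one, MulAut.mul_apply, ih, h2, zpow_sub_one]; group
  refine MonoidHom.ext fun v => ?_
  simpa [← map_zpow] using key (Multiplicative.toAdd g) v

/-- The cover map. -/
def coverMap : Cover P →* Meta P :=
  QuotientGroup.lift _ (SemidirectProduct.lift (toMeta P) (zpowersHom (Meta P) (gb P)) (toMeta_compat P))
    (Subgroup.zpowers_le.mpr (by
      rw [MonoidHom.mem_ker, killed, map_mul, SemidirectProduct.lift_inl, SemidirectProduct.lift_inr,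
        toMeta_vec, zpowersHom_apply, toAdd_ofAdd, zpow_natCast, gb_pow, zpow_neg, zpow_natCast,
        inv_mul_cancel]))

theorem coverMap_inj (x y : ℤ) : coverMap P (inj P (vec P x y)) = ga P ^ x := by
  rw [coverMap, inj, MonoidHom.comp_apply, QuotientGroup.mk'_apply, QuotientGroup.lift_mk,
    SemidirectProduct.lift_inl, toMeta_vec]

theorem coverMap_genB : coverMap P (genB P) = gb P := by
  rw [coverMap, genB, QuotientGroup.mk'_apply, QuotientGroup.lift_mk, SemidirectProduct.lift_inr,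
    zpowersHom_apply, toAdd_ofAdd, zpow_one]

/-- The generator of the kernel. -/
def kgen : Cover P := inj P (vec P 0 1)

theorem kgen_zpow (y : ℤ) : kgen P ^ y = inj P (vec P 0 y) := by
  rw [kgen, ← map_zpow, vec_zpow, mul_zero, mul_one]

theorem kgen_mem_center : kgen P ∈ Subgroup.center (Cover P) := by
  rw [Subgroup.mem_center_iff]
  intro g
  obtain ⟨v, i, rfl⟩ := cover_surj P g
  have h1 : Commute (genB P) (kgen P) := by
    show genB P * kgen P = kgen P * genB P
    rw [← mul_inv_eq_iff_eq_mul, kgen, genB_conj, shearHom_vec]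
    simp
  have h2 : Commute (inj P v) (kgen P) := by
    rw [kgen]; exact (Commute.all v _).map (inj P)
  exact (h2.mul_left (h1.zpow_left i)).eq

instance : (Subgroup.zpowers (kgen P)).Normal :=
  ⟨fun x hx g => by
    have hc : x ∈ Subgroup.center (Cover P) := Subgroup.zpowers_le.mpr (kgen_mem_center P) hx
    rwa [Subgroup.mem_center_iff.mp hc g, mul_inv_cancel_right]⟩

/-- Back from the presented group. -/
def back : Meta P →* Cover P ⧸ Subgroup.zpowers (kgen P) :=
  PresentedGroup.toGroup (f := fun b => QuotientGroup.mk' _ (if b then inj P (vec P 1 0) else genB P)) (by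
    rintro _ (rfl | rfl | rfl)
    · simp only [map_pow, FreeGroup.lift_apply_of, if_true]
      rw [← map_pow, ← map_pow, QuotientGroup.mk'_apply, QuotientGroup.eq_one_iff, vec_pow, mul_one, mul_zero]
      refine Subgroup.mem_zpowers_iff.mpr ⟨P.u, ?_⟩
      rw [kgen_zpow]
      refine congrArg (inj P) ((vec_eq_iff P).mpr ⟨-1, 0, by simp, by simp⟩)
    · simp only [map_mul, map_pow, map_inv, FreeGroup.lift_apply_of, if_true, if_false, Bool.false_eq_true]
      rw [← map_pow, ← map_pow, ← map_inv, ← map_mul, genB_pow, ← map_pow, vec_pow, mul_one, mul_zero,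
        mul_inv_cancel, map_one]
    · simp only [map_mul, map_pow, map_inv, FreeGroup.lift_apply_of, if_true, if_false, Bool.false_eq_true]
      rw [← map_inv, ← map_pow, ← map_mul, ← map_mul, ← map_inv, ← map_mul, QuotientGroup.mk'_apply,
        QuotientGroup.eq_one_iff, genB_conj, ← map_pow, shearHom_vec, vec_pow, mul_one, mul_zero, ← map_inv,
        ← map_mul]
      refine Subgroup.mem_zpowers_iff.mpr ⟨P.z, ?_⟩
      rw [kgen_zpow]
      congr 1
      rw [eq_mul_inv_iff_mul_eq, vec_mul]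
      congr 1 <;> ring)

theorem back_coverMap (g : Cover P) : back P (coverMap P g) = QuotientGroup.mk' _ g := by
  obtain ⟨v, i, rfl⟩ := cover_surj P g
  obtain ⟨x, y, rfl⟩ := vec_surj P v
  rw [map_mul, map_mul, map_zpow, map_zpow, coverMap_inj, coverMap_genB, map_zpow, map_mul, map_zpow]
  have hga : back P (ga P) = QuotientGroup.mk' _ (inj P (vec P 1 0)) := PresentedGroup.toGroup.of _
  have hgb : back P (gb P) = QuotientGroup.mk' _ (genB P) := PresentedGroup.toGroup.of _
  rw [hga, hgb]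
  congr 1
  rw [← map_zpow, ← map_zpow, vec_zpow, mul_one, mul_zero, QuotientGroup.mk'_eq_mk']
  exact ⟨kgen P ^ y, Subgroup.zpow_mem _ (Subgroup.mem_zpowers _) y, by
    rw [kgen_zpow, ← map_mul, vec_mul, add_zero, zero_add]⟩

theorem orderOf_ga : orderOf (ga P) = P.m := by
  refine Nat.dvd_antisymm (orderOf_dvd_of_pow_eq_one (ga_pow P)) ?_
  have h1 : back P (ga P ^ orderOf (ga P)) = 1 := by rw [pow_orderOf_eq_one, map_one]
  have h2 : coverMap P (inj P (vec P (orderOf (ga P) : ℤ) 0)) = ga P ^ orderOf (ga P) := by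
    rw [coverMap_inj, zpow_natCast]
  rw [← h2, back_coverMap, QuotientGroup.mk'_apply, QuotientGroup.eq_one_iff, Subgroup.mem_zpowers_iff] at h1
  obtain ⟨y, hy⟩ := h1
  rw [kgen_zpow, eq_comm, ← mul_inv_eq_one, ← map_inv, ← map_mul, inj_eq_one_iff, mul_inv_eq_one,
    vec_eq_iff] at hy
  obtain ⟨α, β, hα, -⟩ := hy
  rw [sub_zero] at hα
  exact Int.natCast_dvd_natCast.mp ⟨α, hα.trans (mul_comm _ _)⟩

theorem coverMap_ker : (coverMap P).ker = Subgroup.zpowers (kgen P) := by
  refine le_antisymm (fun g hg => ?_) (Subgroup.zpowers_le.mpr ?_)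
  · rw [← QuotientGroup.eq_one_iff, ← QuotientGroup.mk'_apply, ← back_coverMap, MonoidHom.mem_ker.mp hg, map_one]
  · rw [MonoidHom.mem_ker, kgen, coverMap_inj, zpow_zero]

theorem orderOf_kgen : orderOf (kgen P) = P.N := by
  refine Nat.dvd_antisymm (orderOf_dvd_of_pow_eq_one ?_) ?_
  · rw [← zpow_natCast, kgen_zpow, inj_eq_one_iff, ← vec_zero, vec_eq_iff]
    exact ⟨0, 1, by simp, by simp⟩
  · have h1 := pow_orderOf_eq_one (kgen P)
    rw [← zpow_natCast, kgen_zpow, inj_eq_one_iff, ← vec_zero, vec_eq_iff] at h1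
    obtain ⟨α, β, hα, hβ⟩ := h1
    have : α = 0 := by
      rcases mul_eq_zero.mp (show α * (P.m : ℤ) = 0 by simpa using hα.symm) with h | h
      · exact h
      · exact absurd (by exact_mod_cast h) P.hmpos.ne'
    rw [this, zero_mul, sub_zero, sub_zero] at hβ
    exact Int.natCast_dvd_natCast.mp ⟨β, hβ.trans (mul_comm _ _)⟩

theorem coverMap_stem : Cfsg.IsStemExtension (coverMap P) := by
  refine ⟨?_, ?_, ?_⟩
  · rw [← MonoidHom.range_eq_top, eq_top_iff, ← closure_gens P, Subgroup.closure_le]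
    rintro _ (rfl | rfl)
    · exact ⟨inj P (vec P 1 0), by rw [coverMap_inj, zpow_one]⟩
    · exact ⟨genB P, coverMap_genB P⟩
  · rw [coverMap_ker]; exact Subgroup.zpowers_le.mpr (kgen_mem_center P)
  · rw [coverMap_ker, Subgroup.zpowers_le]
    have h : ⁅genB P, inj P (vec P 1 0)⁆ = inj P (vec P ((P.r : ℤ) - 1) P.z) := by
      rw [commutatorElement_def, genB_conj, shearHom_vec, ← map_inv, ← map_mul]
      congr 1
      rw [mul_inv_eq_iff_eq_mul, vec_mul]
      congr 1 <;> ring
    have h2 : kgen P = ⁅genB P, inj P (vec P 1 0)⁆ ^ P.m' := by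
      rw [h, ← map_pow, vec_pow, kgen]
      refine congrArg (inj P) ((vec_eq_iff P).mpr ⟨-P.r', 0, ?_, ?_⟩)
      · rw [P.hr, P.hm]; push_cast; ring
      · linear_combination -P.hbez
    rw [h2, commutator_def]
    exact Subgroup.pow_mem _ (Subgroup.commutator_mem_commutator (Subgroup.mem_top _) (Subgroup.mem_top _)) _

theorem exists_stem : ∃ (Γ : Type) (_ : Group Γ) (_ : Finite Γ) (σ : Γ →* Meta P),
    Cfsg.IsStemExtension σ ∧ Nonempty (σ.ker ≃* Multiplicative (ZMod P.N)) := by
  haveI : NeZero P.N := ⟨P.hN.ne'⟩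
  refine ⟨Cover P, inferInstance, inferInstance, coverMap P, coverMap_stem P, ?_⟩
  haveI : IsCyclic (coverMap P).ker := by rw [coverMap_ker]; infer_instance
  refine ⟨mulEquivOfCyclicCardEq ?_⟩
  rw [coverMap_ker, Nat.card_zpowers, orderOf_kgen, Nat.card_congr Multiplicative.toAdd, Nat.card_zmod]

end Cfsg.Agent.StemMetacyclic
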