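import Cfsg.Agent.EqLemmas

/-!
Upper bound for the multiplier of a metacyclic group.

* `exists_surjective` : for a finite group generated by `a`, `b` with `orderOf a = m = d * m'`,
  `b * a * b⁻¹ = a ^ r`, `b ^ n = a ^ (m' * l)` and `r = d * r' + 1`, `gcd m' r' = 1`, every finite stem
  extension has kernel a quotient of `ZMod N`, where `N = gcd l h` and `gcd m S = m' * h`
-/

set_option autoImplicit false

open scoped commutatorElement

namespace Cfsg.Agent.StemMetacyclic

variable {Γ G : Type*} [Group Γ] [Group G]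

/-- Two lifts of generators and a central kernel generate. -/
theorem eq_top_of_mem {σ : Γ →* G} {A B : Γ} (hgen : Subgroup.closure {σ A, σ B} = ⊤)
    {K : Subgroup Γ} (hA : A ∈ K) (hB : B ∈ K) (hk : σ.ker ≤ K) : K = ⊤ := by
  refine eq_top_iff.mpr (fun g _ => ?_)
  have h1 : K.map σ = ⊤ := by
    rw [eq_top_iff, ← hgen, Subgroup.closure_le]
    rintro _ (rfl | rfl)
    exacts [⟨A, hA, rfl⟩, ⟨B, hB, rfl⟩]
  obtain ⟨k, hk', he⟩ : σ g ∈ K.map σ := h1 ▸ Subgroup.mem_top _
  have : k⁻¹ * g ∈ K := hk (by rw [MonoidHom.mem_ker, map_mul, map_inv, he, inv_mul_cancel])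
  simpa using K.mul_mem hk' this

/-- The derived subgroup lies in a normal subgroup containing the commutator of the two lifts. -/
theorem commutator_le_of_mem {σ : Γ →* G} {A B : Γ} (hgen : Subgroup.closure {σ A, σ B} = ⊤)
    (hc : σ.ker ≤ Subgroup.center Γ) (N : Subgroup Γ) [N.Normal] (h : B * A * B⁻¹ * A⁻¹ ∈ N) :
    commutator Γ ≤ N := by
  set π := QuotientGroup.mk' N with hπ
  have hker : ∀ g ∈ σ.ker, π g ∈ Subgroup.center (Γ ⧸ N) := fun g hg => by
    rw [Subgroup.mem_center_iff]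
    intro y
    obtain ⟨y, rfl⟩ := QuotientGroup.mk'_surjective _ y
    rw [← map_mul, ← map_mul, Subgroup.mem_center_iff.mp (hc hg) y]
  have hAB : Commute (π B) (π A) := by
    have : π (B * A * B⁻¹ * A⁻¹) = 1 := (QuotientGroup.eq_one_iff _).mpr h
    rw [map_mul, map_mul, map_mul, map_inv, map_inv, mul_inv_eq_one, mul_inv_eq_iff_eq_mul] at this
    exact this
  have hcen : ∀ w : Γ, (w = A ∨ w = B) → π w ∈ Subgroup.center (Γ ⧸ N) := by
    intro w hw
    rw [Subgroup.mem_center_iff]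
    intro y
    obtain ⟨y, rfl⟩ := QuotientGroup.mk'_surjective _ y
    have h2 : (Subgroup.centralizer ({π w} : Set (Γ ⧸ N))).comap π = ⊤ := by
      refine eq_top_of_mem hgen ?_ ?_ fun g hg => Subgroup.center_le_centralizer _ (hker g hg)
      · rw [Subgroup.mem_comap, Subgroup.mem_centralizer_singleton_iff]
        rcases hw with rfl | rfl
        exacts [rfl, hAB.eq.symm]
      · rw [Subgroup.mem_comap, Subgroup.mem_centralizer_singleton_iff]
        rcases hw with rfl | rfl
        exacts [hAB.eq, rfl]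
    have : y ∈ (Subgroup.centralizer ({π w} : Set (Γ ⧸ N))).comap π := h2 ▸ Subgroup.mem_top y
    rw [Subgroup.mem_comap, Subgroup.mem_centralizer_singleton_iff] at this
    exact this
  have hall : (Subgroup.center _).comap π = ⊤ :=
    eq_top_of_mem hgen (hcen A (Or.inl rfl)) (hcen B (Or.inr rfl)) hker
  rw [commutator_def, Subgroup.commutator_le]
  intro u _ v _
  rw [← QuotientGroup.eq_one_iff]
  show π ⁅u, v⁆ = 1
  rw [map_commutatorElement, commutatorElement_eq_one_iff_commute]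
  have : u ∈ (Subgroup.center _).comap π := hall ▸ Subgroup.mem_top u
  exact (Subgroup.mem_center_iff.mp this (π v)).symm

/-- Conjugation by a power. -/
theorem conj_pow_iterate {A B z : Γ} {r : ℕ} (hz : ∀ g, Commute z g) (h : B * A * B⁻¹ = z * A ^ r) (i : ℕ) :
    B ^ i * A * (B ^ i)⁻¹ = z ^ (∑ j ∈ Finset.range i, r ^ j) * A ^ (r ^ i) := by
  induction i with
  | zero => simp
  | succ i ih =>
    rw [geom_sum_succ, pow_succ' r i]
    calc B ^ (i + 1) * A * (B ^ (i + 1))⁻¹
        = B * (B ^ i * A * (B ^ i)⁻¹) * B⁻¹ := by rw [pow_succ']; group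
      _ = B * z ^ (∑ j ∈ Finset.range i, r ^ j) * B⁻¹ * (B * A ^ (r ^ i) * B⁻¹) := by rw [ih]; group
      _ = z ^ (∑ j ∈ Finset.range i, r ^ j) * (B * A * B⁻¹) ^ (r ^ i) := by
          rw [← ((hz B).pow_left _).eq, mul_inv_cancel_right, conj_pow]
      _ = z ^ (∑ j ∈ Finset.range i, r ^ j) * (z ^ (r ^ i) * A ^ (r * r ^ i)) := by
          rw [h, (hz _).mul_pow, ← pow_mul]
      _ = _ := by
          rw [← mul_assoc, ← pow_add]
          congr 2
          have := geom_sum_succ (x := r) (n := i)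
          have h2 := Finset.sum_range_succ (fun j => r ^ j) i
          omega

theorem exists_surjective [Finite Γ] (σ : Γ →* G) (hσ : Cfsg.IsStemExtension σ) {m d m' r r' n l h : ℕ}
    (hmd : m = d * m') (hr : r = d * r' + 1) (hcop : Nat.Coprime m' r') (hd : 0 < d)
    (hS : Nat.gcd m (∑ j ∈ Finset.range n, r ^ j) = m' * h)
    (a b : G) (hgen : Subgroup.closure {a, b} = ⊤) (ha : orderOf a = m) (hm : 0 < m)
    (hrel : b * a * b⁻¹ = a ^ r) (hbn : b ^ n = a ^ (m' * l)) :
    ∃ π : Multiplicative (ZMod (Nat.gcd l h)) →* σ.ker, Function.Surjective π := by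
  obtain ⟨A, rfl⟩ := hσ.1 a
  obtain ⟨B, rfl⟩ := hσ.1 b
  set z := B * A * B⁻¹ * (A ^ r)⁻¹ with hzdef
  have hzk : z ∈ σ.ker := by
    rw [MonoidHom.mem_ker, hzdef, map_mul, map_mul, map_mul, map_inv, map_inv, map_pow, hrel, mul_inv_cancel]
  have hz : ∀ g, Commute z g := fun g => (Subgroup.mem_center_iff.mp (hσ.2.1 hzk) g).symm
  have hBA : B * A * B⁻¹ = z * A ^ r := by rw [hzdef, inv_mul_cancel_right]
  have hr1 : r = (d * r') + 1 := hr
  set e := d * r' with he
  set c := z * A ^ e with hcdef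
  have hc : B * A * B⁻¹ * A⁻¹ = c := by
    rw [hBA, hr1, pow_succ, hcdef]; group
  have hcA : Commute c A := (hz A).mul_left ((Commute.refl A).pow_left e)
  have hcB : B * c * B⁻¹ = c ^ r := by
    calc B * c * B⁻¹ = B * z * B⁻¹ * (B * A ^ e * B⁻¹) := by rw [hcdef]; group
      _ = z * (B * A * B⁻¹) ^ e := by rw [← (hz B).eq, mul_inv_cancel_right, conj_pow]
      _ = z * (z ^ e * A ^ (r * e)) := by rw [hBA, (hz _).mul_pow, ← pow_mul]
      _ = c ^ r := by
          rw [hcdef, (hz _).mul_pow, ← pow_mul, ← mul_assoc, ← pow_succ', mul_comm r e, hr1]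
  haveI hN : (Subgroup.zpowers c).Normal := by
    rw [← Subgroup.normalizer_eq_top_iff]
    refine eq_top_of_mem hgen ?_ ?_ fun g hg =>
      Subgroup.centralizer_le_normalizer _ (Subgroup.center_le_centralizer _ (hσ.2.1 hg))
    · refine Subgroup.centralizer_le_normalizer _ ?_
      rw [Subgroup.mem_centralizer_iff]
      intro x hx
      obtain ⟨k, rfl⟩ := Subgroup.mem_zpowers_iff.mp hx
      exact (hcA.zpow_left k).eq
    · have hmap : (Subgroup.zpowers c).map (MulAut.conj B).toMonoidHom = Subgroup.zpowers c := by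
        refine Subgroup.eq_of_le_of_card_ge ?_ (le_of_eq ?_)
        · rintro _ ⟨x, hx, rfl⟩
          obtain ⟨k, rfl⟩ := Subgroup.mem_zpowers_iff.mp hx
          show B * c ^ k * B⁻¹ ∈ _
          rw [← conj_zpow, hcB, ← zpow_natCast, ← zpow_mul]
          exact Subgroup.zpow_mem _ (Subgroup.mem_zpowers c) _
        · exact (Nat.card_congr ((Subgroup.zpowers c).equivMapOfInjective _
            (MulAut.conj B).injective).toEquiv)
      rw [Subgroup.mem_normalizer_iff]
      intro x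
      conv_rhs => rw [← hmap]
      constructor
      · exact fun hx => ⟨x, hx, rfl⟩
      · rintro ⟨y, hy, hxy⟩
        rwa [(MulAut.conj B).injective (hxy : MulAut.conj B y = MulAut.conj B x)] at hy
  have hle := commutator_le_of_mem hgen hσ.2.1 (Subgroup.zpowers c) (hc ▸ Subgroup.mem_zpowers c)
  -- relations
  have hfix : ∀ i, Commute B (A ^ i) → c ^ i = 1 := by
    intro i hi
    have h1 : B * A ^ i * B⁻¹ = A ^ i := by rw [hi.eq, mul_inv_cancel_right]
    rw [← conj_pow, hBA, (hz _).mul_pow, ← pow_mul, hr1, add_mul, one_mul, pow_add, ← mul_assoc] at h1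
    rw [hcdef, (hz _).mul_pow, ← pow_mul]
    exact mul_eq_right.mp h1
  have hkcomm : ∀ g, σ g = 1 → ∀ x, Commute g x := fun g hg x =>
    (Subgroup.mem_center_iff.mp (hσ.2.1 hg) x).symm
  have hcm : c ^ m = 1 := hfix m (hkcomm _ (by rw [map_pow, ← ha, pow_orderOf_eq_one]) B).symm
  have hAt : ∀ x, Commute (B ^ n * (A ^ (m' * l))⁻¹) x :=
    hkcomm _ (by rw [map_mul, map_inv, map_pow, map_pow, hbn, mul_inv_cancel])
  have hcl : c ^ (m' * l) = 1 := hfix _ (by
    have h1 : Commute B ((B ^ n * (A ^ (m' * l))⁻¹)⁻¹ * B ^ n) :=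
      (hAt B).symm.inv_right.mul_right ((Commute.refl B).pow_right n)
    rwa [mul_inv_rev, inv_inv, inv_mul_cancel_right] at h1)
  have hcS : c ^ (∑ j ∈ Finset.range n, r ^ j) = 1 := by
    have h1 : Commute A (B ^ n) := by
      have := (hAt A).symm.mul_right ((Commute.refl A).pow_right (m' * l))
      rwa [inv_mul_cancel_right] at this
    have h2 := conj_pow_iterate hz hBA n
    rw [← h1.eq, mul_inv_cancel_right] at h2
    set S := ∑ j ∈ Finset.range n, r ^ j with hSdef
    have hpow : r ^ n = e * S + 1 := by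
      have := geom_sum_mul_add e n
      rw [show e + 1 = r from hr1.symm] at this
      rw [← this, mul_comm]
    rw [hpow, pow_succ, ← mul_assoc] at h2
    rw [hcdef, (hz _).mul_pow, ← pow_mul]
    exact mul_eq_right.mp h2.symm
  have hch : c ^ (m' * h) = 1 := hS ▸ pow_gcd_eq_one.mpr ⟨hcm, hcS⟩
  have hkN : (c ^ m') ^ Nat.gcd l h = 1 :=
    pow_gcd_eq_one.mpr ⟨by rw [← pow_mul, hcl], by rw [← pow_mul, hch]⟩
  -- the kernel
  have hσc : σ c = σ A ^ e := by rw [hcdef, map_mul, map_pow, MonoidHom.mem_ker.mp hzk, one_mul]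
  have hord : orderOf (σ c) = m' := by
    have hfin : IsOfFinOrder (σ A) := orderOf_pos_iff.mp (ha ▸ hm)
    rw [hσc, hfin.orderOf_pow, ha, hmd, he, Nat.gcd_mul_left, hcop.gcd_eq_one, mul_one,
      Nat.mul_div_cancel_left _ hd]
  have hdk : c ^ m' ∈ σ.ker := by
    rw [MonoidHom.mem_ker, map_pow, ← hord, pow_orderOf_eq_one]
  let k : σ.ker := ⟨c ^ m', hdk⟩
  have hk1 : k ^ Nat.gcd l h = 1 := Subtype.ext hkN
  let f : {f : ℤ →+ Additive σ.ker // f ((Nat.gcd l h : ℕ) : ℤ) = 0} :=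
    ⟨zmultiplesHom _ (Additive.ofMul k), by
      rw [zmultiplesHom_apply, natCast_zsmul, ← ofMul_pow, hk1]; rfl⟩
  refine ⟨AddMonoidHom.toMultiplicativeLeft (ZMod.lift _ f), fun g => ?_⟩
  obtain ⟨j, hj⟩ := Subgroup.mem_zpowers_iff.mp (hle (hσ.2.2 g.2))
  have hg := g.2
  rw [← hj, MonoidHom.mem_ker, map_zpow, ← orderOf_dvd_iff_zpow_eq_one, hord] at hg
  obtain ⟨t, rfl⟩ := hg
  refine ⟨Multiplicative.ofAdd (t : ZMod (Nat.gcd l h)), ?_⟩
  apply Subtype.ext
  rw [← hj, zpow_mul, zpow_natCast]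
  show ((Additive.toMul ((ZMod.lift _ f) ((t : ℤ) : ZMod (Nat.gcd l h)))) : σ.ker).1 = _
  rw [ZMod.lift_coe, show f.1 t = t • Additive.ofMul k from rfl, toMul_zsmul]
  rfl

end Cfsg.Agent.StemMetacyclic
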